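import Mathlib
import Groth.Prelude.Def_CurvBase
import Groth.Agent.Lib.Helper5.Stalk.Pull
import Groth.Agent.Lib.Helper8.ExtScal

set_option linter.style.haveILetI false
set_option linter.unusedVariables false
set_option linter.unusedSectionVars false
set_option autoImplicit false
set_option backward.isDefEq.respectTransparency.types false
set_option synthInstance.maxHeartbeats 400000
set_option maxHeartbeats 1600000
universe u

/-! helper7: weakly associated points ascend along flat morphisms at generic points of fibres (S8899) -/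
open CategoryTheory CategoryTheory.Limits AlgebraicGeometry TopologicalSpace Opposite TensorProduct

namespace Groth.Agent.Helper7.WeakAssFlat

open Groth.Agent.Lib.Helper5.StalkAdj

/-- algebraic core: weakly associated maximal ideals ascend along flat local homomorphisms whose
closed fibre has a single point -/
theorem radical_ann_tmul (A B M : Type u) [CommRing A] [CommRing B] [IsLocalRing A]
    [IsLocalRing B] [Algebra A B] [Module.Flat A B] [IsLocalHom (algebraMap A B)]
    [AddCommGroup M] [Module A M]
    (hrad : ∀ q : Ideal B, q.IsPrime →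
      (IsLocalRing.maximalIdeal A).map (algebraMap A B) ≤ q → q = IsLocalRing.maximalIdeal B)
    (m : M)
    (hm : Ideal.radical (LinearMap.ker (LinearMap.toSpanSingleton A M m)) =
      IsLocalRing.maximalIdeal A) :
    Ideal.radical (LinearMap.ker (LinearMap.toSpanSingleton B (B ⊗[A] M) ((1 : B) ⊗ₜ[A] m))) =
      IsLocalRing.maximalIdeal B := by
  set I : Ideal A := LinearMap.ker (LinearMap.toSpanSingleton A M m) with hI
  set J : Ideal B := LinearMap.ker (LinearMap.toSpanSingleton B (B ⊗[A] M) ((1 : B) ⊗ₜ[A] m))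
    with hJ
  have hFF : Module.FaithfullyFlat A B := Module.FaithfullyFlat.of_flat_of_isLocalHom
  have hm0 : m ≠ 0 := by
    rintro rfl
    have : I = ⊤ := by
      ext a
      simp [hI]
    rw [this, Ideal.radical_top] at hm
    exact (IsLocalRing.maximalIdeal.isMaximal A).ne_top hm.symm
  have hn0 : (1 : B) ⊗ₜ[A] m ≠ 0 := by
    intro h
    apply hm0
    have hinj := Module.FaithfullyFlat.tensorProduct_mk_injective (A := A) (B := B) M
    apply hinj
    rw [map_zero]
    exact h
  have hJne : J ≠ ⊤ := by
    intro h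
    have h1 : (1 : B) ∈ J := h ▸ Submodule.mem_top
    rw [hJ, LinearMap.mem_ker, LinearMap.toSpanSingleton_apply, one_smul] at h1
    exact hn0 h1
  have hIJ : I.map (algebraMap A B) ≤ J := by
    rw [Ideal.map_le_iff_le_comap]
    intro a ha
    rw [hI, LinearMap.mem_ker, LinearMap.toSpanSingleton_apply] at ha
    rw [Ideal.mem_comap, hJ, LinearMap.mem_ker, LinearMap.toSpanSingleton_apply,
      algebraMap_smul, TensorProduct.smul_tmul', TensorProduct.smul_tmul, ha,
      TensorProduct.tmul_zero]
  apply le_antisymm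
  · have h1 : J ≤ IsLocalRing.maximalIdeal B := IsLocalRing.le_maximalIdeal hJne
    have h2 : (IsLocalRing.maximalIdeal B).radical = IsLocalRing.maximalIdeal B :=
      Ideal.IsPrime.radical inferInstance
    exact (Ideal.radical_mono h1).trans h2.le
  · rw [Ideal.radical_eq_sInf]
    apply le_sInf
    rintro q ⟨hJq, hq⟩
    have hle : (IsLocalRing.maximalIdeal A).map (algebraMap A B) ≤ q := by
      rw [Ideal.map_le_iff_le_comap, ← hm]
      have h1 : I ≤ Ideal.comap (algebraMap A B) q :=
        Ideal.map_le_iff_le_comap.mp (hIJ.trans hJq)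
      have h2 : (Ideal.comap (algebraMap A B) q).radical = Ideal.comap (algebraMap A B) q :=
        Ideal.IsPrime.radical (Ideal.comap_isPrime _ _)
      exact (Ideal.radical_mono h1).trans h2.le
    rw [hrad q hq hle]

/-- if no other point of the fibre specialises to `x`, the maximal ideal is the only prime of the
local ring at `x` over the maximal ideal of the base -/
theorem prime_eq_maximalIdeal_of_fibre_generic {X S : Scheme.{u}} (f : X ⟶ S) (x : X)
    (hgen : ∀ y : X, f y = f x → y ⤳ x → y = x)
    (q : Ideal (X.presheaf.stalk x)) (hq : q.IsPrime)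
    (hle : (IsLocalRing.maximalIdeal (S.presheaf.stalk (f x))).map (f.stalkMap x).hom ≤ q) :
    q = IsLocalRing.maximalIdeal (X.presheaf.stalk x) := by
  let P : PrimeSpectrum (X.presheaf.stalk x) := ⟨q, hq⟩
  have hyx : X.fromSpecStalk x P ⤳ x := by
    have : X.fromSpecStalk x P ∈ Set.range (X.fromSpecStalk x) := ⟨P, rfl⟩
    rwa [Scheme.range_fromSpecStalk] at this
  have h3 : (Spec.map (f.stalkMap x)) P = IsLocalRing.closedPoint (S.presheaf.stalk (f x)) := by
    apply PrimeSpectrum.ext
    change Ideal.comap (f.stalkMap x).hom q = IsLocalRing.maximalIdeal _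
    have h4 : IsLocalRing.maximalIdeal _ ≤ Ideal.comap (f.stalkMap x).hom q :=
      Ideal.map_le_iff_le_comap.mp hle
    exact ((IsLocalRing.maximalIdeal.isMaximal _).eq_of_le (Ideal.comap_isPrime _ _).ne_top
      h4).symm
  have hfy : f (X.fromSpecStalk x P) = f x := by
    have h := Scheme.SpecMap_stalkMap_fromSpecStalk f (x := x)
    have h2 := congrArg (fun g => g.base P) h
    have h5 : f (X.fromSpecStalk x P) =
        (S.fromSpecStalk (f x)) ((Spec.map (f.stalkMap x)) P) := h2.symm
    rw [h5, h3]
    exact Scheme.fromSpecStalk_closedPoint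
  have hy := hgen _ hfy hyx
  have hinj : Function.Injective (X.fromSpecStalk x) :=
    (X.fromSpecStalk x).isEmbedding.injective
  have hP : P = IsLocalRing.closedPoint _ :=
    hinj (hy.trans Scheme.fromSpecStalk_closedPoint.symm)
  exact congrArg PrimeSpectrum.asIdeal hP

theorem S8899_main {X S : Scheme.{u}} (f : X ⟶ S) (G : S.Modules)
    (x : ↥X) (hfl : (f.stalkMap x).hom.Flat) (hgen : ∀ y : ↥X, f y = f x → y ⤳ x → y = x)
    (hs : Curv2.IsWeakAssPoint G (f x)) :
    Curv2.IsWeakAssPoint ((Scheme.Modules.pullback f).obj G) x := by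
  obtain ⟨m, hm⟩ := hs
  letI b3 : Algebra (S.presheaf.stalk (f x)) (X.presheaf.stalk x) :=
    (f.stalkMap x).hom.toAlgebra
  haveI : Module.Flat (S.presheaf.stalk (f x)) (X.presheaf.stalk x) := hfl
  haveI hloc : IsLocalHom (algebraMap (S.presheaf.stalk (f x)) (X.presheaf.stalk x)) :=
    (inferInstance : IsLocalHom (f.stalkMap x).hom)
  let Gp := (Scheme.Modules.pullback f).obj G
  let e1 : (Gp.presheaf.stalk x) ≃ₗ[X.presheaf.stalk x]
      ((ModuleCat.extendScalars.{u, u, u} (f.stalkMap x).hom).obj
        ((stalkSh S (f x)).obj G)) := ((stalkPullbackIso f x).app G).toLinearEquiv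
  let e2 : ((ModuleCat.extendScalars.{u, u, u} (f.stalkMap x).hom).obj
      ((stalkSh S (f x)).obj G)) ≃ₗ[X.presheaf.stalk x]
      ((X.presheaf.stalk x) ⊗[S.presheaf.stalk (f x)] (G.presheaf.stalk (f x))) :=
    Groth.Agent.Helper8.extScalEquiv (R := S.presheaf.stalk (f x))
      (S := X.presheaf.stalk x) ((stalkSh S (f x)).obj G)
  let e := e1 ≪≫ₗ e2
  have key := radical_ann_tmul (S.presheaf.stalk (f x)) (X.presheaf.stalk x)
    (G.presheaf.stalk (f x))
    (fun q hq hle => prime_eq_maximalIdeal_of_fibre_generic f x hgen q hq hle) m hm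
  refine ⟨e.symm ((1 : X.presheaf.stalk x) ⊗ₜ[S.presheaf.stalk (f x)] m), ?_⟩
  rw [← key]
  congr 1
  ext b
  simp only [LinearMap.mem_ker, LinearMap.toSpanSingleton_apply]
  rw [← map_smul, EmbeddingLike.map_eq_zero_iff]

end Groth.Agent.Helper7.WeakAssFlat
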